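import Cfsg.Agent.Lib.CosetEnum.Fi22O73Orb.Data
import Cfsg.Agent.Lib.CosetEnum.Fi22O73.Data

/-! Generated certificate. -/

set_option autoImplicit false
set_option maxRecDepth 20000

namespace Cfsg.Lib.CosetEnum.Fi22O73Orb

theorem orb0_ok : orbitOK Fi22O73.tabP orb0 pos0 9 14080 3159 Fi22O73.subWords 3159 0 = true := by
  decide +kernel

theorem orb1_ok : orbitOK Fi22O73.tabP orb1 pos1 9 14080 10920 Fi22O73.subWords 10920 0 = true := by
  decide +kernel

end Cfsg.Lib.CosetEnum.Fi22O73Orb
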