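import Cfsg.Agent.Lib.CosetEnum.Fi22O73Orb.Orb0_Data0
import Cfsg.Agent.Lib.CosetEnum.Fi22O73Orb.Pos0_Data0
import Cfsg.Agent.Lib.CosetEnum.Fi22O73Orb.Orb1_Data0
import Cfsg.Agent.Lib.CosetEnum.Fi22O73Orb.Pos1_Data0

/-! Generated certificate. -/

set_option autoImplicit false
set_option maxRecDepth 20000

namespace Cfsg.Lib.CosetEnum.Fi22O73Orb

/-- Table. -/
def orb0 : Tab :=
  orb0_0

/-- Table. -/
def pos0 : Tab :=
  pos0_0

/-- Table. -/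
def orb1 : Tab :=
  orb1_0

/-- Table. -/
def pos1 : Tab :=
  pos1_0

end Cfsg.Lib.CosetEnum.Fi22O73Orb
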